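import Groth.Agent.Lib.MTExt29.Pairing

/-!
# Commutativity of extensions of groups of multiplicative type
-/

set_option autoImplicit false
set_option linter.style.haveILetI false
set_option linter.unusedSectionVars false
set_option backward.isDefEq.respectTransparency.types false
set_option maxSynthPendingDepth 3

universe u

open CategoryTheory Limits MonoidalCategory CartesianMonoidalCategory MonObj AlgebraicGeometry Opposite

noncomputable section

namespace Groth.Agent.MTExt29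

open DiagGL MTRigid29

variable {S : Scheme.{u}}

/-- Points of `E` over the residue field at `s` commute. -/
def CommOver (E : Over S) [GrpObj E] (s : S) : Prop :=
  ∀ (X : Over S) (q : X.left ⟶ Spec (S.residueField s)), q ≫ S.fromSpecResidueField s = X.hom →
    ∀ a b : X ⟶ E, a * b = b * a

theorem commOver_of_bc {E : Over S} [GrpObj E] (s : S)
    (h : ∀ (X : Over (Spec (S.residueField s))) (a b : X ⟶ Red.bc (S.fromSpecResidueField s) E), a * b = b * a) :
    CommOver E s := by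
  intro X q hq a b
  let j : (Over.map (S.fromSpecResidueField s)).obj (Over.mk q) ≅ X :=
    Over.isoMk (Iso.refl _) (by simp [hq])
  obtain ⟨a', ha⟩ := fl_surjective (S.fromSpecResidueField s) E (j.hom ≫ a)
  obtain ⟨b', hb⟩ := fl_surjective (S.fromSpecResidueField s) E (j.hom ≫ b)
  rw [← cancel_epi j.hom, MonObj.comp_mul, MonObj.comp_mul, ← ha, ← hb, ← fl_mul, ← fl_mul, h]

/-- A morphism constant on the fibres of a faithfully flat quasi-compact morphism descends along it. -/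
theorem exists_desc {A B Z : Over S} (q : A ⟶ B) [Flat q.left] [Surjective q.left] [QuasiCompact q.left]
    (n : A ⟶ Z) (h : ∀ {X : Over S} (a b : X ⟶ A), a ≫ q = b ≫ q → a ≫ n = b ≫ n) :
    ∃ c : B ⟶ Z, q ≫ c = n := by
  haveI : EffectiveEpi q.left := effectiveEpi_of_cover _ fun V hV =>
    ⟨q.left ⁻¹ᵁ V, QuasiCompact.isCompact_preimage (f := q.left) (V : Set B.left) V.2 hV.isCompact,
      Set.image_preimage_eq _ q.left.surjective⟩
  have key' : ∀ {W : Scheme.{u}} (g₁ g₂ : W ⟶ A.left), g₁ ≫ q.left = g₂ ≫ q.left →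
      g₁ ≫ n.left = g₂ ≫ n.left := by
    intro W g₁ g₂ hg
    let X : Over S := Over.mk (g₁ ≫ A.hom)
    let a : X ⟶ A := Over.homMk g₁ rfl
    let b : X ⟶ A := Over.homMk g₂ (by
      show g₂ ≫ A.hom = g₁ ≫ A.hom
      rw [← Over.w q, ← Category.assoc, ← hg, Category.assoc])
    exact congrArg CommaMorphism.left (h a b (Over.OverMorphism.ext hg))
  let l₀ := EffectiveEpi.desc q.left n.left key'
  have hl : q.left ≫ l₀ = n.left := EffectiveEpi.fac q.left n.left key'
  exact ⟨Over.homMk l₀ (by rw [← cancel_epi q.left, ← Category.assoc, hl, Over.w, Over.w]),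
    Over.OverMorphism.ext hl⟩

theorem epi_of_cover {A B : Over S} (q : A ⟶ B) [Flat q.left] [Surjective q.left] [QuasiCompact q.left] : Epi q := by
  haveI : Epi q.left := Flat.epi_of_flat_of_surjective _
  exact Over.epi_of_epi_left _

theorem tensor_cover {A B A' B' : Over S} (q : A ⟶ B) [Flat q.left] [Surjective q.left] [QuasiCompact q.left]
    (q' : A' ⟶ B') [Flat q'.left] [Surjective q'.left] [QuasiCompact q'.left] :
    Flat (q ⊗ₘ q').left ∧ Surjective (q ⊗ₘ q').left ∧ QuasiCompact (q ⊗ₘ q').left :=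
  ⟨MorphismProperty.pullback_map (P := @Flat) ‹_› ‹_› (Over.w q).symm (Over.w q').symm,
    MorphismProperty.pullback_map (P := @Surjective) ‹_› ‹_› (Over.w q).symm (Over.w q').symm,
    MorphismProperty.pullback_map (P := @QuasiCompact) ‹_› ‹_› (Over.w q).symm (Over.w q').symm⟩

/-- A normal subgroup of multiplicative type is central over the points with connected or commutative fibre. -/
theorem central_of_normal {E H : Over S} [GrpObj E] [GrpObj H] (i : H ⟶ E) [IsMonHom i] [Mono i]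
    (hn : AlgGrp.IsNormalHom i) (hH : SGA3x.IsMultTypeFT H)
    (hs : ∀ s : S, _root_.IsConnected (E.hom.base ⁻¹' {s}) ∨ CommOver E s)
    {X : Over S} (e : X ⟶ E) (h : X ⟶ H) : e * (h ≫ i) = (h ≫ i) * e := by
  obtain ⟨n, hn'⟩ := hn (E ⊗ H) (fst E H) (snd E H)
  let c : E ⊗ H ⟶ H := n * (snd E H)⁻¹
  have hc : ∀ {Y : Over S} (a : Y ⟶ E) (m : Y ⟶ H),
      (lift a m ≫ c) ≫ i = a * (m ≫ i) * a⁻¹ * (m ≫ i)⁻¹ := by
    intro Y a m
    simp only [c, MonObj.comp_mul, GrpObj.comp_inv, MonObj.mul_comp, GrpObj.inv_comp, lift_snd, Category.assoc,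
      ← hn', lift_snd_assoc, lift_fst]
  have key := pairing_eq_one c hH hH
    (fun Y a m m' => (cancel_mono i).1 (by
      rw [MonObj.mul_comp, hc, hc, hc, MonObj.mul_comp]
      have hcm : ∀ k k' : Y ⟶ H, (k ≫ i) * (k' ≫ i) = (k' ≫ i) * (k ≫ i) := fun k k' => by
        rw [← MonObj.mul_comp, ← MonObj.mul_comp, commute_of_isMultTypeFT hH]
      have hz := hcm m (lift a m' ≫ c)
      rw [hc] at hz
      calc a * ((m ≫ i) * (m' ≫ i)) * a⁻¹ * ((m ≫ i) * (m' ≫ i))⁻¹
          = (a * (m ≫ i) * a⁻¹) * ((a * (m' ≫ i) * a⁻¹ * (m' ≫ i)⁻¹) * (m ≫ i)⁻¹) := by group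
        _ = (a * (m ≫ i) * a⁻¹) * ((m ≫ i)⁻¹ * ((m ≫ i) * (a * (m' ≫ i) * a⁻¹ * (m' ≫ i)⁻¹)) * (m ≫ i)⁻¹) := by
          group
        _ = _ := by rw [hz]; group))
    (fun Y m => (cancel_mono i).1 (by rw [hc, MonObj.one_comp]; group))
    (fun s => (hs s).imp id fun hcomm Y q hq a m => (cancel_mono i).1 (by
      rw [hc, hcomm Y q hq a (m ≫ i), MonObj.one_comp]; group))
    e h
  have h0 := congrArg (· ≫ i) key
  rw [hc, MonObj.one_comp, mul_inv_eq_one] at h0
  exact mul_inv_eq_iff_eq_mul.1 h0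

variable {E H K : Over S} [GrpObj E] [GrpObj H] [GrpObj K]
  (p : E ⟶ K) [IsMonHom p] [Surjective p.left] [Flat p.left] [QuasiCompact p.left]
  (i : H ⟶ E) [IsMonHom i] (hker : AlgGrp.IsKernel i p)

include hker

/-- A central extension of groups of multiplicative type is commutative, provided over each point the quotient
has connected fibre or the extension is commutative. -/
theorem comm_of_central (hcen : ∀ (X : Over S) (e : X ⟶ E) (h : X ⟶ H), e * (h ≫ i) = (h ≫ i) * e)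
    (hH : SGA3x.IsMultTypeFT H) (hK : SGA3x.IsMultTypeFT K)
    (hs : ∀ s : S, _root_.IsConnected (K.hom.base ⁻¹' {s}) ∨ CommOver E s)
    {X : Over S} (a b : X ⟶ E) : a * b = b * a := by
  haveI : Mono i := ⟨fun _ _ hab => hker.hom_ext hab (toUnit_unique _ _)⟩
  have hkc : (fst E E * snd E E * (fst E E)⁻¹ * (snd E E)⁻¹) ≫ p = 1 := by
    simp only [MonObj.mul_comp, GrpObj.inv_comp]
    rw [commute_of_isMultTypeFT hK (fst E E ≫ p) (snd E E ≫ p)]
    group
  let n : E ⊗ E ⟶ H := hker.lift _ (toUnit _) (by rw [hkc, Hom.one_def])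
  have hn : ∀ {Y : Over S} (a b : Y ⟶ E), (lift a b ≫ n) ≫ i = a * b * a⁻¹ * b⁻¹ := by
    intro Y a b
    rw [Category.assoc, show n ≫ i = _ from hker.lift_fst _ _ _]
    simp only [MonObj.comp_mul, GrpObj.comp_inv, lift_fst, lift_snd]
  have hcong : ∀ {Y : Over S} (a a' b b' : Y ⟶ E), a ≫ p = a' ≫ p → b ≫ p = b' ≫ p →
      lift a b ≫ n = lift a' b' ≫ n := by
    intro Y a a' b b' ha hb
    obtain ⟨x, hx⟩ : ∃ x : Y ⟶ H, x ≫ i = a⁻¹ * a' :=
      ⟨hker.lift _ (toUnit _) (by rw [MonObj.mul_comp, GrpObj.inv_comp, ha, inv_mul_cancel, Hom.one_def]),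
        hker.lift_fst _ _ _⟩
    obtain ⟨y, hy⟩ : ∃ y : Y ⟶ H, y ≫ i = b⁻¹ * b' :=
      ⟨hker.lift _ (toUnit _) (by rw [MonObj.mul_comp, GrpObj.inv_comp, hb, inv_mul_cancel, Hom.one_def]),
        hker.lift_fst _ _ _⟩
    rw [← cancel_mono i, hn, hn, eq_mul_of_inv_mul_eq hx.symm, eq_mul_of_inv_mul_eq hy.symm]
    have cx := hcen Y b x
    have cy := hcen Y a y
    have cxy := hcen Y (x ≫ i) y
    generalize x ≫ i = u at cx cy cxy ⊢
    generalize y ≫ i = w at cx cy cxy ⊢
    symm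
    calc a * u * (b * w) * (a * u)⁻¹ * (b * w)⁻¹ = a * (u * b) * (w * u⁻¹) * a⁻¹ * w⁻¹ * b⁻¹ := by group
      _ = a * (b * u) * (u⁻¹ * w) * a⁻¹ * w⁻¹ * b⁻¹ := by
        rw [cx, (Commute.inv_left (show Commute u w from cxy)).eq.symm]
      _ = a * b * (w * a⁻¹) * w⁻¹ * b⁻¹ := by group
      _ = a * b * (a⁻¹ * w) * w⁻¹ * b⁻¹ := by rw [(Commute.inv_left (show Commute a w from cy)).eq]
      _ = a * b * a⁻¹ * b⁻¹ := by group
  obtain ⟨hf2, hs2, hq2⟩ := tensor_cover p p
  obtain ⟨c, hc⟩ := exists_desc (p ⊗ₘ p) n fun {Y} u u' huu => by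
    have h1 : lift (u ≫ fst E E) (u ≫ snd E E) = u := by rw [← comp_lift, lift_fst_snd, Category.comp_id]
    have h2 : lift (u' ≫ fst E E) (u' ≫ snd E E) = u' := by rw [← comp_lift, lift_fst_snd, Category.comp_id]
    rw [← h1, ← h2]
    refine hcong _ _ _ _ ?_ ?_
    · have := congrArg (· ≫ fst K K) huu
      simpa using this
    · have := congrArg (· ≫ snd K K) huu
      simpa using this
  have hcp : ∀ {Y : Over S} (a b : Y ⟶ E), lift (a ≫ p) (b ≫ p) ≫ c = lift a b ≫ n := by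
    intro Y a b
    rw [← hc, ← Category.assoc, lift_map]
  haveI := (tensor_cover p p).1
  haveI := (tensor_cover p p).2.1
  haveI := (tensor_cover p p).2.2
  obtain ⟨hf3, hs3, hq3⟩ := tensor_cover p (p ⊗ₘ p)
  haveI : Epi (p ⊗ₘ (p ⊗ₘ p)) := epi_of_cover _
  haveI : Epi p := epi_of_cover _
  -- the universal cases
  have hr0 : lift (fst K (K ⊗ K)) ((snd K (K ⊗ K) ≫ fst K K) * (snd K (K ⊗ K) ≫ snd K K)) ≫ c =
      (lift (fst K (K ⊗ K)) (snd K (K ⊗ K) ≫ fst K K) ≫ c) * (lift (fst K (K ⊗ K)) (snd K (K ⊗ K) ≫ snd K K) ≫ c) := by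
    have e1 : (p ⊗ₘ (p ⊗ₘ p)) ≫ fst K (K ⊗ K) = fst E (E ⊗ E) ≫ p := by simp
    have e2 : (p ⊗ₘ (p ⊗ₘ p)) ≫ snd K (K ⊗ K) ≫ fst K K = (snd E (E ⊗ E) ≫ fst E E) ≫ p := by simp
    have e3 : (p ⊗ₘ (p ⊗ₘ p)) ≫ snd K (K ⊗ K) ≫ snd K K = (snd E (E ⊗ E) ≫ snd E E) ≫ p := by simp
    rw [← cancel_epi (p ⊗ₘ (p ⊗ₘ p)), MonObj.comp_mul, ← Category.assoc _ (lift _ _) c,
      ← Category.assoc _ (lift _ _) c, ← Category.assoc _ (lift _ _) c, comp_lift, comp_lift, comp_lift,
      MonObj.comp_mul, e1, e2, e3, ← MonObj.mul_comp, hcp, hcp, hcp]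
    generalize fst E (E ⊗ E) = x
    generalize snd E (E ⊗ E) ≫ fst E E = y
    generalize snd E (E ⊗ E) ≫ snd E E = z
    rw [← cancel_mono i, MonObj.mul_comp, hn, hn, hn]
    have hz := hcen _ y (lift x z ≫ n)
    rw [hn] at hz
    calc x * (y * z) * x⁻¹ * (y * z)⁻¹ = x * y * x⁻¹ * ((x * z * x⁻¹ * z⁻¹) * y⁻¹) := by group
      _ = x * y * x⁻¹ * (y⁻¹ * (y * (x * z * x⁻¹ * z⁻¹)) * y⁻¹) := by group
      _ = _ := by rw [hz]; group
  have hone : lift (1 : K ⟶ K) (𝟙 K) ≫ c = 1 := by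
    rw [← cancel_epi p, comp_lift_assoc, MonObj.comp_one, MonObj.comp_one, Category.comp_id,
      show (1 : E ⟶ K) = (1 : E ⟶ E) ≫ p from (MonObj.one_comp p).symm,
      show lift ((1 : E ⟶ E) ≫ p) p = lift ((1 : E ⟶ E) ≫ p) (𝟙 E ≫ p) by rw [Category.id_comp], hcp,
      ← cancel_mono i, hn, MonObj.one_comp]
    group
  have key := pairing_eq_one c hK hH
    (fun Y u m m' => by
      have := congrArg (lift u (lift m m') ≫ ·) hr0
      simp only [MonObj.comp_mul, ← Category.assoc, comp_lift, lift_fst, lift_snd] at this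
      exact this)
    (fun Y m => by
      have := congrArg (m ≫ ·) hone
      simp only [← Category.assoc, comp_lift, MonObj.comp_one, Category.comp_id] at this
      exact this)
    (fun s => (hs s).imp id fun hcomm Y q hq u m => by
      let Z : Over S := Over.mk (pullback.fst (lift u m).left (p ⊗ₘ p).left ≫ Y.hom)
      let z : Z ⟶ Y := Over.homMk (pullback.fst _ _) rfl
      let w : Z ⟶ E ⊗ E := Over.homMk (pullback.snd _ _) (by
        show pullback.snd _ _ ≫ (E ⊗ E).hom = pullback.fst _ _ ≫ Y.hom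
        rw [← Over.w (p ⊗ₘ p), ← Category.assoc, ← pullback.condition, Category.assoc, Over.w])
      have hzw : z ≫ lift u m = w ≫ (p ⊗ₘ p) := Over.OverMorphism.ext pullback.condition
      haveI : Flat z.left := MorphismProperty.pullback_fst (P := @Flat) _ _ hf2
      haveI : Surjective z.left := MorphismProperty.pullback_fst (P := @Surjective) _ _ hs2
      haveI : QuasiCompact z.left := MorphismProperty.pullback_fst (P := @QuasiCompact) _ _ hq2
      haveI : Epi z := epi_of_cover z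
      rw [← cancel_epi z, ← Category.assoc, hzw, Category.assoc, hc, MonObj.comp_one,
        show w = lift (w ≫ fst E E) (w ≫ snd E E) by rw [← comp_lift, lift_fst_snd, Category.comp_id],
        ← cancel_mono i, hn, hcomm Z (z.left ≫ q) (by rw [Category.assoc, hq]; rfl) (w ≫ fst E E) (w ≫ snd E E),
        MonObj.one_comp]
      group)
    (a ≫ p) (b ≫ p)
  rw [hcp, ← cancel_mono i, hn, MonObj.one_comp, mul_inv_eq_one] at key
  exact mul_inv_eq_iff_eq_mul.1 key

end Groth.Agent.MTExt29
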