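import Groth.Agent.Lib.MTExt29.Main

/-!
# Normal extensions of groups of multiplicative type in groups with connected fibres
-/

set_option autoImplicit false
set_option linter.style.haveILetI false
set_option linter.unusedSectionVars false
set_option backward.isDefEq.respectTransparency.types false
set_option maxSynthPendingDepth 3

universe u

open CategoryTheory Limits MonoidalCategory CartesianMonoidalCategory MonObj AlgebraicGeometry Opposite

noncomputable section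

namespace Groth.Agent.MTExt29

open DiagGL MTRigid29

variable {S : Scheme.{u}} {G P H K : Over S} [GrpObj G] [GrpObj P] [GrpObj H] [GrpObj K]
  (p : P ⟶ K) [IsMonHom p] [Surjective p.left] [Flat p.left] [QuasiCompact p.left]
  (m : H ⟶ P) [IsMonHom m] (hker : AlgGrp.IsKernel m p)

include hker

/-- A map `G × P → Z` multiplicative in the second variable and killing the kernel is trivial. -/
theorem pairing_desc_eq_one {Z : Over S} [GrpObj Z] (c : G ⊗ P ⟶ Z) (hK : SGA3x.IsMultTypeFT K)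
    (hZ : SGA3x.IsMultTypeFT Z)
    (hr : ∀ (X : Over S) (g : X ⟶ G) (x y : X ⟶ P), lift g (x * y) ≫ c = (lift g x ≫ c) * (lift g y ≫ c))
    (h1 : ∀ (X : Over S) (x : X ⟶ P), lift (1 : X ⟶ G) x ≫ c = 1)
    (hkill : ∀ (X : Over S) (g : X ⟶ G) (h : X ⟶ H), lift g (h ≫ m) ≫ c = 1)
    (hconn : ∀ s : S, _root_.IsConnected (G.hom.base ⁻¹' {s}))
    {X : Over S} (g : X ⟶ G) (x : X ⟶ P) : lift g x ≫ c = 1 := by
  haveI : Flat (𝟙 G : G ⟶ G).left := inferInstanceAs (Flat (𝟙 G.left))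
  haveI : Surjective (𝟙 G : G ⟶ G).left := inferInstanceAs (Surjective (𝟙 G.left))
  haveI : QuasiCompact (𝟙 G : G ⟶ G).left := inferInstanceAs (QuasiCompact (𝟙 G.left))
  haveI := (tensor_cover (𝟙 G) p).1
  haveI := (tensor_cover (𝟙 G) p).2.1
  haveI := (tensor_cover (𝟙 G) p).2.2
  obtain ⟨d, hd⟩ := exists_desc (𝟙 G ⊗ₘ p) c fun {Y} u v huv => by
    have e1 : u ≫ fst G P = v ≫ fst G P := by
      have := congrArg (· ≫ fst G K) huv
      simpa using this
    have e2 : (u ≫ snd G P) ≫ p = (v ≫ snd G P) ≫ p := by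
      have := congrArg (· ≫ snd G K) huv
      simpa using this
    obtain ⟨z, hz⟩ := exists_lift_ker p m hker ((u ≫ snd G P)⁻¹ * (v ≫ snd G P)) (by
      rw [MonObj.mul_comp, GrpObj.inv_comp, e2, inv_mul_cancel])
    rw [show u = lift (u ≫ fst G P) (u ≫ snd G P) by rw [← comp_lift, lift_fst_snd, Category.comp_id],
      show v = lift (v ≫ fst G P) (v ≫ snd G P) by rw [← comp_lift, lift_fst_snd, Category.comp_id],
      ← e1, eq_mul_of_inv_mul_eq hz.symm, hr, hkill, _root_.mul_one]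
  have hdp : ∀ {Y : Over S} (g : Y ⟶ G) (x : Y ⟶ P), lift g (x ≫ p) ≫ d = lift g x ≫ c := by
    intro Y g x
    rw [← hd, ← Category.assoc, lift_map, Category.comp_id]
  haveI : Epi p := epi_of_cover _
  haveI := (tensor_cover p p).1
  haveI := (tensor_cover p p).2.1
  haveI := (tensor_cover p p).2.2
  haveI := (tensor_cover (𝟙 G) (p ⊗ₘ p)).1
  haveI := (tensor_cover (𝟙 G) (p ⊗ₘ p)).2.1
  haveI := (tensor_cover (𝟙 G) (p ⊗ₘ p)).2.2
  haveI : Epi (𝟙 G ⊗ₘ (p ⊗ₘ p)) := epi_of_cover _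
  have hr0 : lift (fst G (K ⊗ K)) ((snd G (K ⊗ K) ≫ fst K K) * (snd G (K ⊗ K) ≫ snd K K)) ≫ d =
      (lift (fst G (K ⊗ K)) (snd G (K ⊗ K) ≫ fst K K) ≫ d) * (lift (fst G (K ⊗ K)) (snd G (K ⊗ K) ≫ snd K K) ≫ d) := by
    have e1 : (𝟙 G ⊗ₘ (p ⊗ₘ p)) ≫ fst G (K ⊗ K) = fst G (P ⊗ P) := by simp
    have e2 : (𝟙 G ⊗ₘ (p ⊗ₘ p)) ≫ snd G (K ⊗ K) ≫ fst K K = (snd G (P ⊗ P) ≫ fst P P) ≫ p := by simp
    have e3 : (𝟙 G ⊗ₘ (p ⊗ₘ p)) ≫ snd G (K ⊗ K) ≫ snd K K = (snd G (P ⊗ P) ≫ snd P P) ≫ p := by simp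
    rw [← cancel_epi (𝟙 G ⊗ₘ (p ⊗ₘ p)), MonObj.comp_mul, ← Category.assoc _ (lift _ _) d,
      ← Category.assoc _ (lift _ _) d, ← Category.assoc _ (lift _ _) d, comp_lift, comp_lift, comp_lift,
      MonObj.comp_mul, e1, e2, e3, ← MonObj.mul_comp, hdp, hdp, hdp, hr]
  have hone : lift (1 : K ⟶ G) (𝟙 K) ≫ d = 1 := by
    rw [← cancel_epi p, comp_lift_assoc, MonObj.comp_one, MonObj.comp_one, Category.comp_id,
      show lift (1 : P ⟶ G) p = lift (1 : P ⟶ G) (𝟙 P ≫ p) by rw [Category.id_comp], hdp, h1]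
  have key := pairing_eq_one d hK hZ
    (fun Y u a b => by
      have := congrArg (lift u (lift a b) ≫ ·) hr0
      simp only [MonObj.comp_mul, ← Category.assoc, comp_lift, lift_fst, lift_snd] at this
      exact this)
    (fun Y a => by
      have := congrArg (a ≫ ·) hone
      simp only [← Category.assoc, comp_lift, MonObj.comp_one, Category.comp_id] at this
      exact this)
    (fun s => .inl (hconn s)) g (x ≫ p)
  rwa [hdp] at key

/-- A normal extension of groups of multiplicative type in a group with connected fibres, with normal kernel, is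
central and of multiplicative type. -/
theorem central_and_isMultTypeFT (i' : P ⟶ G) [IsMonHom i'] [Mono i'] (hPn : AlgGrp.IsNormalHom i')
    (hHn : AlgGrp.IsNormalHom (m ≫ i')) (hH : SGA3x.IsMultTypeFT H) (hK : SGA3x.IsMultTypeFT K)
    (hconn : ∀ s : S, _root_.IsConnected (G.hom.base ⁻¹' {s})) :
    (∀ (X : Over S) (g : X ⟶ G) (x : X ⟶ P), g * (x ≫ i') = (x ≫ i') * g) ∧ SGA3x.IsMultTypeFT P := by
  haveI : Mono m := mono_ker p m hker
  haveI : Mono (m ≫ i') := mono_comp _ _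
  have hHc : ∀ {X : Over S} (g : X ⟶ G) (h : X ⟶ H), g * (h ≫ m ≫ i') = (h ≫ m ≫ i') * g := fun g h =>
    central_of_normal (m ≫ i') hHn hH (fun s => .inl (hconn s)) g h
  obtain ⟨n, hn⟩ := hPn (G ⊗ P) (fst G P) (snd G P)
  let c₀ : G ⊗ P ⟶ P := n * (snd G P)⁻¹
  have hc₀ : ∀ {X : Over S} (g : X ⟶ G) (x : X ⟶ P),
      (lift g x ≫ c₀) ≫ i' = g * (x ≫ i') * g⁻¹ * (x ≫ i')⁻¹ := by
    intro X g x
    simp only [c₀, MonObj.comp_mul, GrpObj.comp_inv, MonObj.mul_comp, GrpObj.inv_comp, lift_snd, Category.assoc,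
      ← hn, lift_snd_assoc, lift_fst]
  have hcK : ∀ {X : Over S} (a b : X ⟶ K), a * b = b * a := fun a b => commute_of_isMultTypeFT hK a b
  have hp0 : c₀ ≫ p = 1 := by
    have hmul : ∀ (X : Over S) (g : X ⟶ G) (x y : X ⟶ P),
        lift g (x * y) ≫ c₀ = (lift g x ≫ c₀) * (x * (lift g y ≫ c₀) * x⁻¹) := fun X g x y =>
      (cancel_mono i').1 (by
        simp only [MonObj.mul_comp, GrpObj.inv_comp, hc₀]
        group)
    have key := pairing_desc_eq_one p m hker (c₀ ≫ p) hK hK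
      (fun X g x y => by
        rw [← Category.assoc, hmul, MonObj.mul_comp, MonObj.mul_comp, MonObj.mul_comp, GrpObj.inv_comp,
          hcK (x ≫ p), mul_inv_cancel_right, Category.assoc, Category.assoc])
      (fun X x => by
        rw [← Category.assoc, show lift (1 : X ⟶ G) x ≫ c₀ = 1 from (cancel_mono i').1 (by
          rw [hc₀, MonObj.one_comp]; group), MonObj.one_comp])
      (fun X g h => by
        rw [← Category.assoc, show lift g (h ≫ m) ≫ c₀ = 1 from (cancel_mono i').1 (by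
          rw [hc₀, MonObj.one_comp, Category.assoc, hHc]; group), MonObj.one_comp])
      hconn (fst G P) (snd G P)
    rwa [lift_fst_snd, Category.id_comp] at key
  obtain ⟨d, hd⟩ := exists_lift_ker p m hker c₀ hp0
  have hdi : ∀ {X : Over S} (g : X ⟶ G) (x : X ⟶ P),
      (lift g x ≫ d) ≫ m ≫ i' = g * (x ≫ i') * g⁻¹ * (x ≫ i')⁻¹ := by
    intro X g x
    rw [← hc₀, ← hd, Category.assoc, Category.assoc, Category.assoc]
  have key : ∀ {X : Over S} (g : X ⟶ G) (x : X ⟶ P), lift g x ≫ d = 1 := fun g x =>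
    pairing_desc_eq_one p m hker d hK hH
      (fun X g x y => (cancel_mono (m ≫ i')).1 (by
        rw [MonObj.mul_comp, hdi, hdi, hdi, MonObj.mul_comp]
        have hz := hHc (x ≫ i') (lift g y ≫ d)
        rw [hdi] at hz
        calc g * ((x ≫ i') * (y ≫ i')) * g⁻¹ * ((x ≫ i') * (y ≫ i'))⁻¹
            = g * (x ≫ i') * g⁻¹ * ((g * (y ≫ i') * g⁻¹ * (y ≫ i')⁻¹) * (x ≫ i')⁻¹) := by group
          _ = g * (x ≫ i') * g⁻¹ * ((x ≫ i')⁻¹ * ((x ≫ i') * (g * (y ≫ i') * g⁻¹ * (y ≫ i')⁻¹)) * (x ≫ i')⁻¹) := by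
            group
          _ = _ := by rw [hz]; group))
      (fun X x => (cancel_mono (m ≫ i')).1 (by rw [hdi, MonObj.one_comp]; group))
      (fun X g h => (cancel_mono (m ≫ i')).1 (by rw [hdi, MonObj.one_comp, Category.assoc, hHc]; group))
      hconn g x
  have hcent : ∀ (X : Over S) (g : X ⟶ G) (x : X ⟶ P), g * (x ≫ i') = (x ≫ i') * g := by
    intro X g x
    have h := hdi g x
    rw [key, MonObj.one_comp] at h
    exact mul_inv_eq_iff_eq_mul.1 (mul_inv_eq_one.1 h.symm)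
  exact ⟨hcent, isMultTypeFT_of_comm_extension p m hker (fun X a b => (cancel_mono i').1 (by
    rw [MonObj.mul_comp, MonObj.mul_comp, hcent])) hH hK⟩

end Groth.Agent.MTExt29
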