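import Groth.Agent.Lib.MTRigid29.SubgrpFlat
import Groth.Agent.Lib.MultType.Field
import Groth.Agent.Lib.Unip23.NoPrim
import Groth.Agent.Lib.HopfFF23.Basic
import Groth.Agent.S3273
import Mathlib.RingTheory.Finiteness.Descent
import Mathlib.RingTheory.TensorProduct.IncludeLeftSubRight

/-!
# Commutative extensions of groups of multiplicative type: Hopf algebra form
-/

set_option autoImplicit false
set_option linter.style.haveILetI false
set_option linter.unusedSectionVars false

universe u

open TensorProduct WithConv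

noncomputable section

namespace Groth.Agent.MTExt29

variable {R : Type u} [CommRing R]

/-- An element is integral over the image of the power map. -/
theorem exists_pow_mem_range {B : Type u} [CommRing B] [HopfAlgebra R B] (h : SGA3b.IsMultType R B) {n : ℕ}
    (hn : 0 < n) (b : B) : RingHom.IsIntegralElem ((SGA3b.powConv R B n : B →ₐ[R] B) : B →+* B) b := by
  classical
  obtain ⟨ι, _, U, _, _, _, hff, hd⟩ := MultTypeLib.exists_split_family h
  have := Fintype.ofFinite ι
  let P := SGA3b.powConv R B n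
  let PT : ∀ i, U i ⊗[R] B →ₐ[U i] U i ⊗[R] B := fun i => Algebra.TensorProduct.map (AlgHom.id (U i) (U i)) P
  have hint : ∀ i (z : U i ⊗[R] B), RingHom.IsIntegralElem (PT i : U i ⊗[R] B →+* U i ⊗[R] B) z := by
    intro i
    obtain ⟨M, _, ⟨e⟩⟩ := hd i
    letI := (PT i : U i ⊗[R] B →+* U i ⊗[R] B).toAlgebra
    intro z
    obtain ⟨y, rfl⟩ : ∃ y, e.symm y = z := ⟨e z, e.symm_apply_apply z⟩
    show IsIntegral (U i ⊗[R] B) _
    induction y using MonoidAlgebra.induction_linear with
    | zero => rw [map_zero]; exact isIntegral_zero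
    | add a b ha hb => rw [map_add]; exact ha.add hb
    | single m r =>
      rw [show MonoidAlgebra.single m r = r • MonoidAlgebra.single m (1 : U i) by simp, map_smul, Algebra.smul_def]
      refine IsIntegral.mul ?_ ?_
      · rw [← (PT i).commutes r]
        exact isIntegral_algebraMap
      · refine IsIntegral.of_pow hn ?_
        rw [← MultTypeLib.map_powConv_glike (U i) n
          ((MonoidAlgebra.isGroupLikeElem_single_one (R := U i) (A := U i) m).map e.symm)]
        exact isIntegral_algebraMap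
  choose q hqm hq using fun i => hint i ((1 : U i) ⊗ₜ[R] b)
  let N := Finset.univ.sup fun i => (q i).natDegree
  let f : (Fin N → B) →ₗ[R] B :=
    { toFun := fun c => ∑ j, P (c j) * b ^ (j : ℕ)
      map_add' := fun c d => by simp [add_mul, Finset.sum_add_distrib]
      map_smul' := fun r c => by simp [Finset.smul_sum] }
  suffices hb : b ^ N ∈ LinearMap.range f by
    obtain ⟨c, hc⟩ := hb
    refine ⟨Polynomial.X ^ N - ∑ j : Fin N, Polynomial.C (c j) * Polynomial.X ^ (j : ℕ),
      Polynomial.monic_X_pow_sub ?_, ?_⟩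
    · exact Polynomial.degree_sum_fin_lt c
    · simp only [Polynomial.eval₂_sub, Polynomial.eval₂_X_pow, Polynomial.eval₂_finsetSum, Polynomial.eval₂_mul,
        Polynomial.eval₂_C]
      exact sub_eq_zero.2 hc.symm
  let W := LinearMap.range f
  rw [← Submodule.Quotient.mk_eq_zero]
  haveI := hff
  apply Module.FaithfullyFlat.tensorProduct_mk_injective (A := R) (B := Π i, U i) _
  show (1 : Π i, U i) ⊗ₜ[R] W.mkQ (b ^ N) = (1 : Π i, U i) ⊗ₜ[R] (0 : B ⧸ W)
  rw [TensorProduct.tmul_zero, ← MultTypeLib.sum_single_proj ((1 : Π i, U i) ⊗ₜ[R] W.mkQ (b ^ N))]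
  refine Finset.sum_eq_zero fun i _ => ?_
  suffices hi : (1 : U i) ⊗ₜ[R] W.mkQ (b ^ N) = 0 by
    simp only [LinearMap.rTensor_tmul, LinearMap.proj_apply, Pi.one_apply] at hi ⊢
    rw [show (LinearMap.single R U i (1 : U i)) ⊗ₜ[R] W.mkQ (b ^ N) =
      (LinearMap.single R U i).rTensor _ ((1 : U i) ⊗ₜ[R] W.mkQ (b ^ N)) from (LinearMap.rTensor_tmul ..).symm,
      hi, map_zero]
  have hd : (q i).natDegree ≤ N := Finset.le_sup (f := fun i => (q i).natDegree) (Finset.mem_univ i)
  let q' := q i * Polynomial.X ^ (N - (q i).natDegree)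
  have hq'm : q'.Monic := (hqm i).mul (Polynomial.monic_X_pow _)
  have hq'0 : q'.eval₂ (PT i : U i ⊗[R] B →+* U i ⊗[R] B) ((1 : U i) ⊗ₜ[R] b) = 0 := by
    rw [Polynomial.eval₂_mul, hq i, zero_mul]
  have hq'd : q'.natDegree ≤ N := by
    refine (Polynomial.natDegree_mul_le).trans ?_
    refine (Nat.add_le_add le_rfl (Polynomial.natDegree_X_pow_le _)).trans ?_
    omega
  have key : ∀ (z : U i ⊗[R] B) (j : Fin N),
      (LinearMap.baseChange (U i) W.mkQ) (PT i z * ((1 : U i) ⊗ₜ[R] b) ^ (j : ℕ)) = 0 := by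
    intro z j
    induction z using TensorProduct.induction_on with
    | zero => simp
    | add x y hx hy => rw [map_add, add_mul, map_add, hx, hy, add_zero]
    | tmul t c =>
      rw [show PT i (t ⊗ₜ[R] c) = t ⊗ₜ[R] P c from rfl, Algebra.TensorProduct.tmul_pow,
        Algebra.TensorProduct.tmul_mul_tmul, one_pow, mul_one, LinearMap.baseChange_tmul,
        Submodule.mkQ_apply, (Submodule.Quotient.mk_eq_zero W).2 ⟨Pi.single j c, by
          show ∑ l, P ((Pi.single j c : Fin N → B) l) * b ^ (l : ℕ) = _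
          rw [Finset.sum_eq_single j (fun l _ hl => by rw [Pi.single_eq_of_ne hl, map_zero, zero_mul])
            (fun hj => absurd (Finset.mem_univ j) hj), Pi.single_eq_same]⟩, TensorProduct.tmul_zero]
  rcases Nat.lt_or_ge q'.natDegree N with hlt | hge
  · -- only possible over the zero ring
    have hsub : Subsingleton (U i ⊗[R] B) := by
      by_contra hns
      rw [not_subsingleton_iff_nontrivial] at hns
      rw [(hqm i).natDegree_mul (Polynomial.monic_X_pow _), Polynomial.natDegree_X_pow] at hlt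
      omega
    refine Eq.trans (LinearMap.baseChange_tmul (f := W.mkQ) (1 : U i) (b ^ N)).symm ?_
    have h0 : (1 : U i) ⊗ₜ[R] (b ^ N) = 0 := Subsingleton.elim _ _
    exact (congrArg (LinearMap.baseChange (U i) W.mkQ) h0).trans (map_zero _)
  have hdeg : q'.natDegree = N := le_antisymm hq'd hge
  rw [Polynomial.eval₂_eq_sum_range, hdeg, Finset.sum_range_succ,
    show q'.coeff N = 1 by rw [← hdeg]; exact hq'm, map_one, one_mul, add_eq_zero_iff_eq_neg'] at hq'0
  have h1 := congrArg (LinearMap.baseChange (U i) W.mkQ) hq'0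
  rw [Algebra.TensorProduct.tmul_pow, one_pow, LinearMap.baseChange_tmul, map_neg, map_sum,
    Finset.sum_eq_zero (fun j hj => key _ ⟨j, Finset.mem_range.1 hj⟩), neg_zero] at h1
  exact h1

variable {D C B : Type u} [CommRing D] [HopfAlgebra R D] [CommRing C] [HopfAlgebra R C] [CommRing B]
  [HopfAlgebra R B] (π : D →ₐc[R] C) (ι : C →ₐc[R] B)

/-- Two points with the same image differ by a point of the kernel. -/
theorem exists_diff (hι : Function.Surjective ι)
    (hker : RingHom.ker (ι : C →ₐ[R] B) ≤ Ideal.map (π : D →ₐ[R] C) (RingHom.ker (Bialgebra.counitAlgHom R D)))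
    {X : Type u} [CommRing X] [Algebra R X] (a t : C →ₐ[R] X)
    (hat : a.comp (π : D →ₐ[R] C) = t.comp (π : D →ₐ[R] C)) :
    ∃ h : B →ₐ[R] X, toConv (h.comp (ι : C →ₐ[R] B)) = (toConv a)⁻¹ * toConv t := by
  let u : WithConv (C →ₐ[R] X) := (toConv a)⁻¹ * toConv t
  have h1 : toConv a * u = toConv t := mul_inv_cancel_left _ _
  have hdist : ∀ f g : WithConv (C →ₐ[R] X), toConv ((f * g).ofConv.comp (π : D →ₐ[R] C)) =
      toConv (f.ofConv.comp (π : D →ₐ[R] C)) * toConv (g.ofConv.comp (π : D →ₐ[R] C)) :=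
    fun f g => ofConv_injective (AlgHom.convMul_comp_bialgHom_distrib f g π)
  have hu : toConv (u.ofConv.comp (π : D →ₐ[R] C)) = 1 := by
    have h := hdist (toConv a) u
    rw [h1, ofConv_toConv, ofConv_toConv, hat] at h
    exact left_eq_mul.1 h
  have hle : RingHom.ker (ι : C →ₐ[R] B) ≤ RingHom.ker u.ofConv := by
    refine hker.trans (Ideal.map_le_iff_le_comap.2 fun x hx => ?_)
    show u.ofConv ((π : D →ₐ[R] C) x) = 0
    have := DFunLike.congr_fun (congrArg ofConv hu) x
    rw [ofConv_toConv, AlgHom.comp_apply] at this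
    rw [this]
    show algebraMap R X (Coalgebra.counit x) = 0
    rw [show Coalgebra.counit (R := R) x = 0 from hx, map_zero]
  refine ⟨(ι : C →ₐ[R] B).liftOfSurjective hι u.ofConv hle, ofConv_injective ?_⟩
  exact AlgHom.liftOfSurjective_comp _ hι _ hle

/-- Over the product of the ring and the kernel: translation by points of the kernel. -/
theorem apply_eq_of_diff {X : Type u} [CommRing X] [Algebra R X] {a t : C →ₐ[R] X} {h : B →ₐ[R] X}
    (hh : toConv (h.comp (ι : C →ₐ[R] B)) = (toConv a)⁻¹ * toConv t) (c : C) :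
    t c = Algebra.TensorProduct.lift a (h.comp (ι : C →ₐ[R] B)) (fun _ _ => Commute.all _ _)
      (Coalgebra.comul (R := R) c) := by
  have h1 : toConv a * toConv (h.comp (ι : C →ₐ[R] B)) = toConv t := by rw [hh, mul_inv_cancel_left]
  have h2 := congrArg (fun v : WithConv (C →ₐ[R] X) => v c) h1
  simp only [AlgHom.convMul_apply] at h2
  exact h2.symm

/-- The torsion of a commutative extension of groups of multiplicative type is finite. -/
theorem torsion_finite [Coalgebra.IsCocomm R C] [Coalgebra.IsCocomm R D] (hι : Function.Surjective ι)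
    (hker : RingHom.ker (ι : C →ₐ[R] B) ≤ Ideal.map (π : D →ₐ[R] C) (RingHom.ker (Bialgebra.counitAlgHom R D)))
    (hπ : ((π : D →ₐ[R] C) : D →+* C).FaithfullyFlat)
    (hCft : Algebra.FiniteType R C) (hDft : Algebra.FiniteType R D) (hD : SGA3b.IsMultType R D)
    (hB : SGA3b.IsMultType R B) {n : ℕ} (hn : 0 < n) :
    Module.Finite R (C ⧸ SGA3b.torsionIdeal R C n) := by
  haveI := MTRigid29.SubgrpFlat.isHopfIdeal_torsion (R := R) (A := D) n
  haveI := (MultTypeLib.torsion_isMultType_and_finite hDft hD n hn (SGA3b.torsionIdeal R D n) rfl).2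
  let J := SGA3b.torsionIdeal R C n
  let φ : (D ⧸ SGA3b.torsionIdeal R D n) →ₐ[R] (C ⧸ J) :=
    Ideal.quotientMapₐ _ (π : D →ₐ[R] C) (MTRigid29.SubgrpFlat.torsion_map_le π n)
  letI := φ.toRingHom.toAlgebra
  haveI : IsScalarTower R (D ⧸ SGA3b.torsionIdeal R D n) (C ⧸ J) :=
    IsScalarTower.of_algebraMap_eq fun r => (φ.commutes r).symm
  letI algD : Algebra D C := ((π : D →ₐ[R] C) : D →+* C).toAlgebra
  haveI : IsScalarTower R D C := IsScalarTower.of_algebraMap_eq fun r => ((π : D →ₐ[R] C).commutes r).symm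
  haveI : Module.FaithfullyFlat D C := hπ
  haveI : IsScalarTower D (D ⧸ SGA3b.torsionIdeal R D n) (C ⧸ J) := IsScalarTower.of_algebraMap_eq fun _ => rfl
  haveI : IsScalarTower R D (C ⧸ J) :=
    IsScalarTower.of_algebraMap_eq fun r => (congrArg (Ideal.Quotient.mk J) ((π : D →ₐ[R] C).commutes r)).symm
  suffices Module.Finite D (C ⧸ J) by
    haveI : Module.Finite (D ⧸ SGA3b.torsionIdeal R D n) (C ⧸ J) := Module.Finite.of_restrictScalars_finite D _ _
    exact Module.Finite.trans (D ⧸ SGA3b.torsionIdeal R D n) (C ⧸ J)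
  suffices Module.Finite C (C ⊗[D] (C ⧸ J)) from Module.Finite.of_finite_tensorProduct_of_faithfullyFlat C
  let X := C ⊗[D] (C ⧸ J)
  let a : C →ₐ[R] X := (Algebra.TensorProduct.includeLeft : C →ₐ[D] X).restrictScalars R
  let t : C →ₐ[R] X :=
    ((Algebra.TensorProduct.includeRight : (C ⧸ J) →ₐ[D] X).restrictScalars R).comp (Ideal.Quotient.mkₐ R J)
  have hat : a.comp (π : D →ₐ[R] C) = t.comp (π : D →ₐ[R] C) := by
    refine AlgHom.ext fun d => ?_
    show (algebraMap D C d) ⊗ₜ[D] (1 : C ⧸ J) = (1 : C) ⊗ₜ[D] algebraMap D (C ⧸ J) d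
    rw [Algebra.algebraMap_eq_smul_one, Algebra.algebraMap_eq_smul_one, TensorProduct.smul_tmul]
  obtain ⟨h, hh⟩ := exists_diff π ι hι hker a t hat
  have ht : toConv t ^ n = 1 := by
    rw [← MultTypeLib.comp_powConv]
    refine ofConv_injective (AlgHom.ext fun c => ?_)
    rw [ofConv_toConv, AlgHom.comp_apply]
    show t (SGA3b.powConv R C n c) = algebraMap R X (Coalgebra.counit c)
    have hm : SGA3b.powConv R C n c - algebraMap R C (Coalgebra.counit c) ∈ J := by
      rw [← (SGA3b.powConv R C n).commutes, ← map_sub]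
      refine Ideal.mem_map_of_mem _ ?_
      show Bialgebra.counitAlgHom R C _ = 0
      simp
    have : t (SGA3b.powConv R C n c - algebraMap R C (Coalgebra.counit c)) = 0 := by
      show (Algebra.TensorProduct.includeRight : (C ⧸ J) →ₐ[D] X) (Ideal.Quotient.mk J _) = 0
      rw [Ideal.Quotient.eq_zero_iff_mem.2 hm, map_zero]
    rwa [map_sub, AlgHom.commutes, sub_eq_zero] at this
  have hrange : ∀ c : C, ∃ x : C, a x = ((toConv a)⁻¹ ^ n).ofConv c := by
    intro c
    have key : ∀ m : ℕ, ∀ c : C, ∃ x : C, a x = ((toConv a)⁻¹ ^ m).ofConv c := by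
      intro m
      induction m with
      | zero => exact fun c => ⟨algebraMap R C (Coalgebra.counit c), a.commutes _⟩
      | succ m ih =>
        intro c
        rw [show ((toConv a)⁻¹ ^ (m + 1)) = (toConv a)⁻¹ ^ m * (toConv a)⁻¹ from
            pow_succ (M := WithConv (C →ₐ[R] X)) _ _,
          AlgHom.convMul_apply, ← (Coalgebra.Repr.arbitrary R c).eq]
        refine ⟨∑ j ∈ (Coalgebra.Repr.arbitrary R c).index, (ih ((Coalgebra.Repr.arbitrary R c).left j)).choose *
          HopfAlgebra.antipode R ((Coalgebra.Repr.arbitrary R c).right j), ?_⟩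
        simp only [map_sum, map_mul, Algebra.TensorProduct.lift_tmul]
        exact Finset.sum_congr rfl fun j _ => by
          rw [(ih ((Coalgebra.Repr.arbitrary R c).left j)).choose_spec]
          rfl
    exact key n c
  have hpow : ∀ b : B, ∃ x : C, a x = h (SGA3b.powConv R B n b) := by
    intro b
    obtain ⟨c, rfl⟩ := hι b
    obtain ⟨x, hx⟩ := hrange c
    refine ⟨x, hx.trans ?_⟩
    rw [MTRigid29.SubgrpFlat.powConv_comm]
    have h2 : toConv ((h.comp (ι : C →ₐ[R] B)).comp (SGA3b.powConv R C n)) = (toConv a)⁻¹ ^ n := by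
      rw [MultTypeLib.comp_powConv, hh]
      exact (mul_pow ((toConv a)⁻¹) (toConv t) n).trans ((congrArg ((toConv a)⁻¹ ^ n * ·) ht).trans
        (mul_one (M := WithConv (C →ₐ[R] X)) _))
    exact (DFunLike.congr_fun (congrArg ofConv h2) c).symm
  have hintB : ∀ b : B, IsIntegral C (h b) := by
    intro b
    obtain ⟨q, hqm, hq⟩ := exists_pow_mem_range hB hn b
    choose l hl using fun k => hpow (q.coeff k)
    refine ⟨Polynomial.X ^ q.natDegree + ∑ j : Fin q.natDegree, Polynomial.C (l j) * Polynomial.X ^ (j : ℕ),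
      Polynomial.monic_X_pow_add (Polynomial.degree_sum_fin_lt _), ?_⟩
    have h0 := congrArg h hq
    rw [Polynomial.eval₂_eq_sum_range, Finset.sum_range_succ,
      show q.coeff q.natDegree = 1 from hqm, map_one, one_mul, map_zero, map_add, map_sum, map_pow] at h0
    rw [Polynomial.eval₂_add, Polynomial.eval₂_X_pow, Polynomial.eval₂_finsetSum, ← h0, add_comm,
      ← Fin.sum_univ_eq_sum_range (f := fun j => h ((SGA3b.powConv R B n : B →+* B) (q.coeff j) * b ^ j))]
    refine congrArg (· + h b ^ q.natDegree) (Finset.sum_congr rfl fun j _ => ?_)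
    rw [Polynomial.eval₂_mul, Polynomial.eval₂_C, Polynomial.eval₂_X_pow, map_mul, map_pow]
    exact congrArg (· * h b ^ (j : ℕ)) (hl j)
  have hint : Algebra.IsIntegral C X := ⟨fun z => by
    induction z using TensorProduct.induction_on with
    | zero => exact isIntegral_zero
    | add x y hx hy => exact hx.add hy
    | tmul c y =>
      obtain ⟨y, rfl⟩ := Ideal.Quotient.mk_surjective y
      rw [show c ⊗ₜ[D] Ideal.Quotient.mk J y = algebraMap C X c * t y by
        show _ = (c ⊗ₜ[D] (1 : C ⧸ J)) * ((1 : C) ⊗ₜ[D] Ideal.Quotient.mk J y)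
        rw [Algebra.TensorProduct.tmul_mul_tmul, mul_one, one_mul]]
      refine isIntegral_algebraMap.mul ?_
      rw [apply_eq_of_diff ι hh]
      induction Coalgebra.comul (R := R) y using TensorProduct.induction_on with
      | zero => rw [map_zero]; exact isIntegral_zero
      | add u v hu hv => rw [map_add]; exact hu.add hv
      | tmul u v =>
        rw [Algebra.TensorProduct.lift_tmul]
        exact (show IsIntegral C (a u) from isIntegral_algebraMap).mul (hintB _)⟩
  haveI : Algebra.FiniteType R (C ⧸ J) := hCft.of_surjective (Ideal.Quotient.mkₐ R J) Ideal.Quotient.mk_surjective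
  haveI : Algebra.FiniteType D (C ⧸ J) := Algebra.FiniteType.of_restrictScalars_finiteType R D (C ⧸ J)
  exact Algebra.IsIntegral.finite

/-- Over a field, a primitive function on an extension comes from the quotient. -/
theorem eq_zero_of_isPrim {k : Type u} [Field k] {D C B : Type u} [CommRing D] [HopfAlgebra k D] [CommRing C]
    [HopfAlgebra k C] [CommRing B] [HopfAlgebra k B] (π : D →ₐc[k] C) (ι : C →ₐc[k] B)
    (hι : Function.Surjective ι)
    (hker : RingHom.ker (ι : C →ₐ[k] B) ≤ Ideal.map (π : D →ₐ[k] C) (RingHom.ker (Bialgebra.counitAlgHom k D)))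
    (hπ : ((π : D →ₐ[k] C) : D →+* C).FaithfullyFlat)
    (hD : ∀ d : D, Unip23.IsPrim (k := k) d → d = 0) (hB : ∀ b : B, Unip23.IsPrim (k := k) b → b = 0)
    (f : C) (hf : Unip23.IsPrim (k := k) f) : f = 0 := by
  letI algD : Algebra D C := ((π : D →ₐ[k] C) : D →+* C).toAlgebra
  haveI : IsScalarTower k D C := IsScalarTower.of_algebraMap_eq fun r => ((π : D →ₐ[k] C).commutes r).symm
  haveI : Module.FaithfullyFlat D C := hπ
  have hιf : ι f = 0 := hB _ <| by
    show Coalgebra.comul (R := k) (ι f) = _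
    rw [← CoalgHomClass.map_comp_comul_apply ι, show Coalgebra.comul (R := k) f = _ from hf]
    simp
  let a : C →ₐ[k] C ⊗[D] C := (Algebra.TensorProduct.includeLeft : C →ₐ[D] C ⊗[D] C).restrictScalars k
  let t : C →ₐ[k] C ⊗[D] C := (Algebra.TensorProduct.includeRight : C →ₐ[D] C ⊗[D] C).restrictScalars k
  obtain ⟨h, hh⟩ := exists_diff π ι hι hker a t (AlgHom.ext fun d => by
    show (algebraMap D C d) ⊗ₜ[D] (1 : C) = (1 : C) ⊗ₜ[D] algebraMap D C d
    rw [Algebra.algebraMap_eq_smul_one, TensorProduct.smul_tmul])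
  have h1 := apply_eq_of_diff ι hh f
  rw [show Coalgebra.comul (R := k) f = _ from hf, map_add, Algebra.TensorProduct.lift_tmul,
    Algebra.TensorProduct.lift_tmul, map_one, mul_one, map_one, one_mul, AlgHom.comp_apply,
    show (ι : C →ₐ[k] B) f = 0 from hιf, map_zero, add_zero] at h1
  obtain ⟨d, rfl⟩ := ((Algebra.IsEffective.of_faithfullyFlat D C) f).1
    ((Algebra.TensorProduct.includeLeftSubRight_apply (R := D) f).trans (sub_eq_zero.2 h1.symm))
  have hinj : Function.Injective (algebraMap D C) := FaithfulSMul.algebraMap_injective D C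
  have hd : Unip23.IsPrim (k := k) d := by
    refine TensorProduct.map_injective_of_flat_flat (π : D →ₐ[k] C).toLinearMap
      (π : D →ₐ[k] C).toLinearMap hinj hinj ?_
    refine (CoalgHomClass.map_comp_comul_apply π d).trans ?_
    rw [map_add, TensorProduct.map_tmul, TensorProduct.map_tmul]
    show Coalgebra.comul (R := k) (algebraMap D C d) = _
    rw [show Coalgebra.comul (R := k) (algebraMap D C d) = _ from hf]
    simp
    rfl
  rw [hD d hd, map_zero]

/-- Groups of multiplicative type over a field have no homomorphisms to the additive group. -/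
theorem isPrim_eq_zero_of_isMultType {k : Type u} [Field k] {A : Type u} [CommRing A] [HopfAlgebra k A]
    (h : SGA3b.IsMultType k A) (x : A) (hx : Unip23.IsPrim (k := k) x) : x = 0 := by
  obtain ⟨L, _, _, M, _, ⟨e⟩⟩ := MultTypeLib.exists_field_isDiag h
  have hspan : HopfRep.IsDiagonalizable L (L ⊗[k] A) := by
    refine eq_top_iff.2 fun z _ => ?_
    obtain ⟨y, rfl⟩ : ∃ y, e.symm y = z := ⟨e z, e.symm_apply_apply z⟩
    induction y using MonoidAlgebra.induction_linear with
    | zero => rw [map_zero]; exact zero_mem _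
    | add a b ha hb => rw [map_add]; exact add_mem (ha trivial) (hb trivial)
    | single m r =>
      rw [show MonoidAlgebra.single m r = r • MonoidAlgebra.single m (1 : L) by simp, map_smul]
      exact Submodule.smul_mem _ _ (Submodule.subset_span
        ((MonoidAlgebra.isGroupLikeElem_single_one (R := L) (A := L) m).map e.symm))
  have h1 := Unip23.eq_zero_of_isPrim_of_span hspan (x := (1 : L) ⊗ₜ[k] x) (by
    show Coalgebra.comul (R := L) ((1 : L) ⊗ₜ[k] x) = _
    simp [TensorProduct.comul_tmul, show Coalgebra.comul (R := k) x = _ from hx, TensorProduct.tmul_add,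
      Algebra.TensorProduct.one_def])
  exact Module.FaithfullyFlat.tensorProduct_mk_injective (A := k) (B := L) A (by simpa using h1)

/-- The fibres of a commutative extension of groups of multiplicative type are of multiplicative type. -/
theorem isMultType_fibre [Coalgebra.IsCocomm R C] (hι : Function.Surjective ι)
    (hker : RingHom.ker (ι : C →ₐ[R] B) ≤ Ideal.map (π : D →ₐ[R] C) (RingHom.ker (Bialgebra.counitAlgHom R D)))
    (hπ : ((π : D →ₐ[R] C) : D →+* C).FaithfullyFlat)
    (hCft : Algebra.FiniteType R C) (hDft : Algebra.FiniteType R D) (hD : SGA3b.IsMultType R D)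
    (hB : SGA3b.IsMultType R B) (κ : Type u) [Field κ] [Algebra R κ] : SGA3b.IsMultType κ (κ ⊗[R] C) := by
  let k := AlgebraicClosure κ
  haveI := hCft
  haveI := hDft
  let π' := MultTypeLib.bcMap k π
  let ι' := MultTypeLib.bcMap k ι
  have hι' : Function.Surjective ι' := fun z => by
    induction z using TensorProduct.induction_on with
    | zero => exact ⟨0, map_zero ι'⟩
    | tmul l y =>
      obtain ⟨c, rfl⟩ := hι y
      exact ⟨l ⊗ₜ[R] c, rfl⟩
    | add a b ha hb =>
      obtain ⟨x, rfl⟩ := ha
      obtain ⟨y, rfl⟩ := hb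
      exact ⟨x + y, map_add ι' x y⟩
  have hker' : RingHom.ker (ι' : k ⊗[R] C →ₐ[k] k ⊗[R] B) ≤
      Ideal.map (π' : k ⊗[R] D →ₐ[k] k ⊗[R] C) (RingHom.ker (Bialgebra.counitAlgHom k (k ⊗[R] D))) := by
    have h1 : RingHom.ker (ι' : k ⊗[R] C →ₐ[k] k ⊗[R] B) =
        (RingHom.ker (ι : C →ₐ[R] B)).map Algebra.TensorProduct.includeRight :=
      Algebra.TensorProduct.lTensor_ker (A := k) (ι : C →ₐ[R] B) hι
    rw [h1, Ideal.map_le_iff_le_comap]
    refine hker.trans (Ideal.map_le_iff_le_comap.2 fun d hd => ?_)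
    rw [Ideal.mem_comap, Ideal.mem_comap]
    refine Ideal.mem_map_of_mem (π' : k ⊗[R] D →ₐ[k] k ⊗[R] C) (x := (1 : k) ⊗ₜ[R] d) ?_
    show Coalgebra.counit (R := k) ((1 : k) ⊗ₜ[R] d) = 0
    simp [show Coalgebra.counit (R := R) d = 0 from hd]
  have hinj : Function.Injective π' := by
    letI algD : Algebra D C := ((π : D →ₐ[R] C) : D →+* C).toAlgebra
    haveI : IsScalarTower R D C := IsScalarTower.of_algebraMap_eq fun r => ((π : D →ₐ[R] C).commutes r).symm
    haveI : Module.FaithfullyFlat D C := hπ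
    let e := TensorProduct.AlgebraTensorModule.cancelBaseChange R D D C k
    have hcomp : ∀ z : D ⊗[R] k,
        TensorProduct.comm R C k (e (TensorProduct.AlgebraTensorModule.mk D D C (D ⊗[R] k) 1 z)) =
          π' (TensorProduct.comm R D k z) := by
      intro z
      induction z using TensorProduct.induction_on with
      | zero => simp
      | tmul d l =>
        show TensorProduct.comm R C k (e ((1 : C) ⊗ₜ[D] (d ⊗ₜ[R] l))) = l ⊗ₜ[R] π d
        rw [TensorProduct.AlgebraTensorModule.cancelBaseChange_tmul, TensorProduct.comm_tmul,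
          Algebra.smul_def, mul_one]
        rfl
      | add a b ha hb => simp only [map_add, ha, hb]
    intro x y hxy
    obtain ⟨x, rfl⟩ := (TensorProduct.comm R D k).surjective x
    obtain ⟨y, rfl⟩ := (TensorProduct.comm R D k).surjective y
    rw [← hcomp, ← hcomp] at hxy
    exact congrArg _ (Module.FaithfullyFlat.tensorProduct_mk_injective (A := D) (B := C) _
      (e.injective ((TensorProduct.comm R C k).injective hxy)))
  have hπ' := HopfFF23.faithfullyFlat_of_injective π' hinj
  haveI : Algebra.FiniteType k (k ⊗[R] C) := inferInstance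
  have hprim : ∀ f : k ⊗[R] C, Unip23.IsPrim (k := k) f → f = 0 :=
    eq_zero_of_isPrim π' ι' hι' hker' hπ'
      (isPrim_eq_zero_of_isMultType (MultTypeLib.isMultType_baseChange k hD))
      (isPrim_eq_zero_of_isMultType (MultTypeLib.isMultType_baseChange k hB))
  have hdiag : SGA3b.IsDiag k (k ⊗[R] C) := by
    refine MultTypeLib.isDiag_of_span_glike Set.univ (Algebra.adjoin_univ k _) fun c _ => ?_
    have hspan : Submodule.span k {a : k ⊗[R] C | IsGroupLikeElem k a} = ⊤ := (S3273.result k (k ⊗[R] C)).2 hprim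
    show c ∈ Submodule.span k {a : k ⊗[R] C | IsGroupLikeElem k a}
    rw [hspan]
    exact Submodule.mem_top
  refine MultTypeLib.isMultType_of_const ⟨k, inferInstance, inferInstance, inferInstance, ?_⟩
  exact MultTypeLib.isDiag_tensor_tensor κ k hdiag

end Groth.Agent.MTExt29
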