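import Groth.Agent.Lib.MTExt29.Alg
import Groth.Agent.Lib.MTRigid29.SubgrpFlatScheme
import Groth.Agent.Lib.MTRigid29.MTFlat
import Groth.Agent.Lib.MTRigid29.MonoClosedGlobal
import Groth.Agent.Lib.AbRigid.KernelPair

/-!
# Commutative extensions of groups of multiplicative type
-/

set_option autoImplicit false
set_option linter.style.haveILetI false
set_option linter.unusedSectionVars false
set_option backward.isDefEq.respectTransparency.types false
set_option maxSynthPendingDepth 3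

universe u

open CategoryTheory Limits MonoidalCategory CartesianMonoidalCategory MonObj AlgebraicGeometry Opposite

noncomputable section

namespace Groth.Agent.MTExt29

open DiagGL MTRigid29

variable {S : Scheme.{u}} {E H K : Over S} [GrpObj E] [GrpObj H] [GrpObj K]
  (p : E ⟶ K) [IsMonHom p] [Surjective p.left] [Flat p.left] [QuasiCompact p.left]
  (i : H ⟶ E) [IsMonHom i] (hker : AlgGrp.IsKernel i p)

include hker

theorem kills {W : Over S} (c : W ⟶ H) : (c ≫ i) ≫ p = 1 := by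
  rw [Category.assoc, hker.w, ← Category.assoc, toUnit_unique (c ≫ toUnit H) (toUnit _), Hom.one_def]

theorem exists_lift_ker {W : Over S} (g : W ⟶ E) (hg : g ≫ p = 1) : ∃ c : W ⟶ H, c ≫ i = g :=
  ⟨hker.lift g (toUnit W) (by rw [hg, Hom.one_def]), hker.lift_fst _ _ _⟩

theorem mono_ker : Mono i := ⟨fun _ _ hab => hker.hom_ext hab (toUnit_unique _ _)⟩

/-- A property stable under base change which descends along faithfully flat maps passes from the kernel to
the quotient map. -/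
theorem prop_of_ker (P : MorphismProperty Scheme.{u}) [P.IsStableUnderBaseChange]
    [P.DescendsAlong (@Surjective ⊓ @Flat ⊓ @QuasiCompact)] (h : P H.hom) : P p.left := by
  have hp := (AbRigid.isPullback_kernelPair p i hker).map (Over.forget _)
  refine MorphismProperty.of_isPullback_of_descendsAlong
    (Q := @Surjective ⊓ @Flat ⊓ @QuasiCompact) hp
    ⟨⟨‹Surjective p.left›, ‹Flat p.left›⟩, ‹QuasiCompact p.left›⟩ ?_
  show P (fst E H).left
  exact MorphismProperty.pullback_fst E.hom H.hom h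

theorem isAffineHom_ext (hH : SGA3x.IsMultTypeFT H) (hK : SGA3x.IsMultTypeFT K) : IsAffineHom E.hom := by
  haveI : MorphismProperty.DescendsAlong @IsAffineHom (@Surjective ⊓ @Flat ⊓ @QuasiCompact : MorphismProperty Scheme.{u}) :=
    FpqcDesc.descendsAlong_isAffineHom
  haveI : IsAffineHom p.left := prop_of_ker p i hker @IsAffineHom (isAffineHom_of_isMultTypeFT hH)
  haveI := isAffineHom_of_isMultTypeFT hK
  rw [← Over.w p]
  infer_instance

theorem flat_ext (hK : SGA3x.IsMultTypeFT K) : Flat E.hom := by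
  haveI := flat_of_isMultTypeFT hK
  rw [← Over.w p]
  infer_instance

theorem lfp_ext (hH : SGA3x.IsMultTypeFT H) (hK : SGA3x.IsMultTypeFT K) : LocallyOfFinitePresentation E.hom := by
  haveI : LocallyOfFinitePresentation p.left := prop_of_ker p i hker @LocallyOfFinitePresentation (lfp_of_isMultTypeFT hH)
  haveI := lfp_of_isMultTypeFT hK
  rw [← Over.w p]
  infer_instance

/-- A commutative extension of groups of multiplicative type and of finite type is one. -/
theorem isMultTypeFT_of_comm_extension (hc : ∀ (X : Over S) (a b : X ⟶ E), a * b = b * a)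
    (hH : SGA3x.IsMultTypeFT H) (hK : SGA3x.IsMultTypeFT K) : SGA3x.IsMultTypeFT E := by
  haveI := isAffineHom_ext p i hker hH hK
  haveI := flat_ext p i hker hK
  haveI := lfp_ext p i hker hH hK
  refine isMultTypeFT_of_local E fun s => ?_
  obtain ⟨V, hV, hsV, -⟩ := exists_isAffineOpen_mem_and_subset (x := s) (U := ⊤) trivial
  let g : Spec (CommRingCat.of (Γ(S, V) : Type u)) ⟶ S := hV.fromSpec
  refine ⟨_, g, inferInstance, hV.range_fromSpec.symm.subset hsV, ?_⟩
  haveI : IsOpenImmersion g := inferInstanceAs (IsOpenImmersion hV.fromSpec)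
  obtain ⟨D, _, _, _, -, hDsplit, hDft, ⟨eD⟩⟩ := exists_model_ft hK g
  obtain ⟨B, _, _, _, -, hBsplit, hBft, ⟨eB⟩⟩ := exists_model_ft hH g
  haveI : IsAffineHom (Red.bc g E).hom := MorphismProperty.pullback_snd _ _ ‹IsAffineHom E.hom›
  haveI : IsAffine (Red.bc g E).left := isAffine_of_isAffineHom (Red.bc g E).hom
  obtain ⟨⟨Cc⟩, ⟨eC'⟩⟩ := (essImage_hopfSpec (G := Grp.mk (Red.bc g E))).2 ‹_›
  let eC : Grp.mk (CoactBr.sp Γ(S, V) Cc.X) ≅ Grp.mk (Red.bc g E) := eC'
  haveI : IsMonHom eC.hom.hom.hom := eC.hom.hom.isMonHom_hom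
  haveI : IsMonHom eC.inv.hom.hom := eC.inv.hom.isMonHom_hom
  haveI : IsMonHom eD.hom.hom.hom := eD.hom.hom.isMonHom_hom
  haveI : IsMonHom eD.inv.hom.hom := eD.inv.hom.isMonHom_hom
  haveI : IsMonHom eB.hom.hom.hom := eB.hom.hom.isMonHom_hom
  haveI : IsMonHom eB.inv.hom.hom := eB.inv.hom.isMonHom_hom
  let FC : CoactBr.sp Γ(S, V) Cc.X ≅ Red.bc g E := ⟨eC.hom.hom.hom, eC.inv.hom.hom,
    by rw [← Mon.comp_hom', ← Grp.comp', eC.hom_inv_id]; rfl, by rw [← Mon.comp_hom', ← Grp.comp', eC.inv_hom_id]; rfl⟩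
  let FD : CoactBr.sp Γ(S, V) D ≅ Red.bc g K := ⟨eD.hom.hom.hom, eD.inv.hom.hom,
    by rw [← Mon.comp_hom', ← Grp.comp', eD.hom_inv_id]; rfl, by rw [← Mon.comp_hom', ← Grp.comp', eD.inv_hom_id]; rfl⟩
  let FB : CoactBr.sp Γ(S, V) B ≅ Red.bc g H := ⟨eB.hom.hom.hom, eB.inv.hom.hom,
    by rw [← Mon.comp_hom', ← Grp.comp', eB.hom_inv_id]; rfl, by rw [← Mon.comp_hom', ← Grp.comp', eB.inv_hom_id]; rfl⟩
  haveI : IsMonHom FC.hom := ‹IsMonHom eC.hom.hom.hom›
  haveI : IsMonHom FC.inv := ‹IsMonHom eC.inv.hom.hom›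
  haveI : IsMonHom FD.hom := ‹IsMonHom eD.hom.hom.hom›
  haveI : IsMonHom FD.inv := ‹IsMonHom eD.inv.hom.hom›
  haveI : IsMonHom FB.hom := ‹IsMonHom eB.hom.hom.hom›
  haveI : IsMonHom FB.inv := ‹IsMonHom eB.inv.hom.hom›
  let p₀ := (Over.pullback g).map p
  let i₀ := (Over.pullback g).map i
  haveI := isMonHom_map p g
  haveI := isMonHom_map i g
  obtain ⟨π, hπ⟩ := exists_bialgHom_of_monHom (FC.hom ≫ p₀ ≫ FD.inv)
  obtain ⟨φi, hι⟩ := exists_bialgHom_of_monHom (FB.hom ≫ i₀ ≫ FC.inv)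
  haveI := mono_ker p i hker
  -- points of the kernel over the chart
  have hflk : ∀ {T : Over (Spec (CommRingCat.of Γ(S, V)))} (z : T ⟶ Red.bc g E), z ≫ p₀ = 1 →
      ∃ y : T ⟶ Red.bc g H, y ≫ i₀ = z := by
    intro T z hz
    have h1 : fl g E z ≫ p = 1 := by rw [← fl_comp_map, hz, fl_one]
    obtain ⟨c, hc'⟩ := exists_lift_ker p i hker _ h1
    obtain ⟨y, rfl⟩ := fl_surjective g H c
    exact ⟨y, fl_injective g E (by rw [fl_comp_map, hc'])⟩
  have hflm : ∀ {T : Over (Spec (CommRingCat.of Γ(S, V)))} (y y' : T ⟶ Red.bc g H),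
      y ≫ i₀ = y' ≫ i₀ → y = y' := fun y y' h =>
    fl_injective g H ((cancel_mono i).1 (by rw [← fl_comp_map, ← fl_comp_map, h]))
  have hfl1 : ∀ {T : Over (Spec (CommRingCat.of Γ(S, V)))} (y : T ⟶ Red.bc g H), (y ≫ i₀) ≫ p₀ = 1 := fun y =>
    fl_injective g K (by rw [fl_comp_map, fl_comp_map, kills p i hker, fl_one])
  let R : Type u := Γ(S, V)
  let I : Ideal Cc.X := Ideal.map (π : D →ₐ[R] Cc.X) (RingHom.ker (Bialgebra.counitAlgHom R D))
  let q : CoactBr.sp R (Cc.X ⧸ I) ⟶ CoactBr.sp R Cc.X := CoactBr.pt (Ideal.Quotient.mkₐ R I)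
  have hq : (q ≫ FC.hom) ≫ p₀ = 1 := by
    have h1 : q ≫ CoactBr.pt (π : D →ₐ[R] Cc.X) = 1 := by
      rw [← CoactBr.pt_comp, CoactBr.one_eq_pt]
      refine congrArg CoactBr.pt (AlgHom.ext fun d => ?_)
      show Ideal.Quotient.mk I (π d) = _
      have : Ideal.Quotient.mk I ((π : D →ₐ[R] Cc.X) (d - algebraMap R D (Coalgebra.counit d))) = 0 :=
        Ideal.Quotient.eq_zero_iff_mem.2 (Ideal.mem_map_of_mem _ (by
          show Bialgebra.counitAlgHom R D _ = 0
          simp))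
      rw [map_sub, map_sub, sub_eq_zero, AlgHom.commutes] at this
      exact this
    rw [← hπ] at h1
    have h2 := congrArg (· ≫ FD.hom) h1
    simpa [MonObj.one_comp] using h2
  obtain ⟨y, hy⟩ := hflk (q ≫ FC.hom) hq
  have hq' : (y ≫ FB.inv) ≫ CoactBr.pt (φi : Cc.X →ₐ[R] B) = q := by
    rw [← hι]
    simp only [Category.assoc, Iso.inv_hom_id_assoc]
    rw [← Category.assoc, hy, Category.assoc, Iso.hom_inv_id, Category.comp_id]
  obtain ⟨φy, hgam⟩ := exists_pt (y ≫ FB.inv)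
  rw [hgam, ← CoactBr.pt_comp] at hq'
  have hmk := CoactBr.pt_injective hq'
  have hker' : RingHom.ker (φi : Cc.X →ₐ[R] B) ≤ I := fun c hcI => by
    rw [← Ideal.Quotient.eq_zero_iff_mem, ← Ideal.Quotient.mkₐ_eq_mk R, ← hmk, AlgHom.comp_apply,
      RingHom.mem_ker.1 hcI, map_zero]
  have hker'' : I ≤ RingHom.ker (φi : Cc.X →ₐ[R] B) := Ideal.map_le_iff_le_comap.2 fun d hd => by
    have h0 : FB.hom ≫ i₀ ≫ p₀ = 1 := by rw [← Category.assoc]; exact hfl1 _
    have h1 : CoactBr.pt (φi : Cc.X →ₐ[R] B) ≫ CoactBr.pt (π : D →ₐ[R] Cc.X) = 1 := by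
      rw [← hι, ← hπ]
      have := congrArg (· ≫ FD.inv) h0
      simpa [MonObj.one_comp] using this
    rw [← CoactBr.pt_comp, CoactBr.one_eq_pt] at h1
    show (φi : Cc.X →ₐ[R] B) ((π : D →ₐ[R] Cc.X) d) = 0
    rw [← AlgHom.comp_apply, CoactBr.pt_injective h1]
    show algebraMap R B (Coalgebra.counit d) = 0
    rw [show Coalgebra.counit (R := R) d = 0 from hd, map_zero]
  have hsurj : Function.Surjective φi := fun b => by
    let φbar : (Cc.X ⧸ I) →ₐ[R] B := Ideal.Quotient.liftₐ I (φi : Cc.X →ₐ[R] B) hker''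
    have h1 : (CoactBr.pt φbar ≫ (y ≫ FB.inv)) ≫ FB.hom ≫ i₀ = (𝟙 _ : CoactBr.sp R B ⟶ _) ≫ FB.hom ≫ i₀ := by
      simp only [Category.assoc, Iso.inv_hom_id_assoc, Category.id_comp]
      rw [hy, ← Category.assoc, ← CoactBr.pt_comp, show φbar.comp (Ideal.Quotient.mkₐ R I) = (φi : Cc.X →ₐ[R] B) from
        AlgHom.ext fun _ => rfl, ← hι]
      simp
    rw [← Category.assoc, ← Category.assoc] at h1
    have h2 := (cancel_mono FB.hom).1 (hflm _ _ h1)
    rw [Category.assoc, hgam, ← CoactBr.pt_comp, ← CoactBr.pt_id] at h2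
    obtain ⟨c, hc'⟩ := Ideal.Quotient.mk_surjective (φy b)
    refine ⟨c, ?_⟩
    have h3 := DFunLike.congr_fun (CoactBr.pt_injective h2) b
    rw [AlgHom.comp_apply, ← hc'] at h3
    exact h3
  haveI hfl : Flat p₀.left := MorphismProperty.of_isPullback (P := @Flat) (isPullback_map_left g p) ‹_›
  haveI hsu : Surjective p₀.left := MorphismProperty.of_isPullback (P := @Surjective) (isPullback_map_left g p) ‹_›
  haveI : IsIso FC.hom.left := inferInstanceAs (IsIso ((Over.forget _).map FC.hom))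
  haveI : IsIso FD.inv.left := inferInstanceAs (IsIso ((Over.forget _).map FD.inv))
  have hπff : ((π : D →ₐ[R] Cc.X) : D →+* Cc.X).FaithfullyFlat := by
    let f : CommRingCat.of D ⟶ CommRingCat.of Cc.X := CommRingCat.ofHom ((π : D →ₐ[R] Cc.X) : D →+* Cc.X)
    have he : (FC.hom ≫ p₀ ≫ FD.inv).left = Spec.map f := by rw [hπ]; rfl
    haveI : Flat (Spec.map f) := by
      rw [← he]
      exact inferInstanceAs (Flat (FC.hom.left ≫ p₀.left ≫ FD.inv.left))
    haveI : Surjective (Spec.map f) := by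
      rw [← he]
      exact inferInstanceAs (Surjective (FC.hom.left ≫ p₀.left ≫ FD.inv.left))
    exact RingHom.FaithfullyFlat.iff_flat_and_comap_surjective.2
      ⟨(HasRingHomProperty.Spec_iff (P := @Flat)).1 ‹Flat (Spec.map f)›, (Spec.map f).surjective⟩
  haveI : Coalgebra.IsCocomm R Cc.X := isCocomm_of_comm fun a b => (cancel_mono FC.hom).1 (by
    rw [MonObj.mul_comp, MonObj.mul_comp]
    exact fl_injective g E (by rw [fl_mul, fl_mul, hc]))
  haveI : Coalgebra.IsCocomm R D := isCocomm_of_model (A := D) (isMultTypeFT_bc hK g) FD.hom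
  have hCh : (CoactBr.sp R Cc.X).hom = FC.hom.left ≫ (Red.bc g E).hom := (Over.w FC.hom).symm
  haveI : Flat (Red.bc g E).hom := MorphismProperty.pullback_snd _ _ ‹Flat E.hom›
  haveI : LocallyOfFinitePresentation (Red.bc g E).hom :=
    MorphismProperty.pullback_snd _ _ ‹LocallyOfFinitePresentation E.hom›
  have hflat : Flat (CoactBr.sp R Cc.X).hom := by rw [hCh]; infer_instance
  have hfp : LocallyOfFinitePresentation (CoactBr.sp R Cc.X).hom := by rw [hCh]; infer_instance
  haveI : Module.Flat R Cc.X :=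
    RingHom.flat_algebraMap_iff.1 ((HasRingHomProperty.Spec_iff (P := @Flat)).1 hflat)
  have hfp' : Algebra.FinitePresentation R Cc.X :=
    RingHom.finitePresentation_algebraMap.1 ((HasRingHomProperty.Spec_iff (P := @LocallyOfFinitePresentation)).1 hfp)
  haveI : Algebra.FiniteType R Cc.X := inferInstance
  have hMT : SGA3b.IsMultType R Cc.X := MultTypeLib.isMultType_of_fibres_torsion hfp'
    (fun P _ => isMultType_fibre π φi hsurj hker' hπff inferInstance hDft (isMultType_of_isSplit hDsplit)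
      (isMultType_of_isSplit hBsplit) P.ResidueField)
    fun n hn => torsion_finite π φi hsurj hker' hπff inferInstance hDft (isMultType_of_isSplit hDsplit)
      (isMultType_of_isSplit hBsplit) hn
  obtain ⟨S', f, h1, h2, h3, h4⟩ := IsotrivialNormal.isMultTypeFT_sp hMT
  refine ⟨S', f, h1, h2, h3, fun s' => ?_⟩
  obtain ⟨U, hU, M, _, hfg, ⟨e⟩⟩ := h4 s'
  exact ⟨U, hU, M, inferInstance, hfg, ⟨((Over.pullback (U.ι ≫ f)).mapGrp.mapIso eC).symm ≪≫ e⟩⟩

end Groth.Agent.MTExt29
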