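import Groth.Agent.Lib.MTExt29.Scheme
import Groth.Agent.Lib.MTExt29.Comm
import Groth.Agent.Lib.MTRigid29.ExtensionCentral

/-!
# Extensions of groups of multiplicative type
-/

set_option autoImplicit false
set_option linter.style.haveILetI false
set_option linter.unusedSectionVars false
set_option backward.isDefEq.respectTransparency.types false
set_option maxSynthPendingDepth 3

universe u

open CategoryTheory Limits MonoidalCategory CartesianMonoidalCategory MonObj AlgebraicGeometry Opposite

noncomputable section

namespace Groth.Agent.MTExt29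

open DiagGL MTRigid29

variable {S : Scheme.{u}} {E H K : Over S} [GrpObj E] [GrpObj H] [GrpObj K]
  (p : E ⟶ K) [IsMonHom p] [Surjective p.left] [Flat p.left] [QuasiCompact p.left]
  (i : H ⟶ E) [IsMonHom i] (hker : AlgGrp.IsKernel i p)

include hker

theorem isNormal_ker : AlgGrp.IsNormalHom i := fun W g n => by
  obtain ⟨c, hc⟩ := exists_lift_ker p i hker (g * (n ≫ i) * g⁻¹) (by
    rw [MonObj.mul_comp, MonObj.mul_comp, kills p i hker, _root_.mul_one, GrpObj.inv_comp, mul_inv_cancel])
  exact ⟨c, hc.symm⟩

theorem isMultTypeFT_of_extension_connected (hH : SGA3x.IsMultTypeFT H) (hK : SGA3x.IsMultTypeFT K)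
    (h : ∀ s : S, _root_.IsConnected (K.hom.base ⁻¹' {s})) : SGA3x.IsMultTypeFT E :=
  isMultTypeFT_of_comm_extension p i hker
    (fun _ a b => comm_of_central p i hker
      (fun X e x => (central_of_extension p i hker hH h X x e).symm) hH hK (fun s => .inl (h s)) a b) hH hK

theorem isConnected_fibre_of_surjective (s : S) (h : _root_.IsConnected (E.hom.base ⁻¹' {s})) :
    _root_.IsConnected (K.hom.base ⁻¹' {s}) := by
  have he : K.hom.base ⁻¹' {s} = p.left '' (E.hom.base ⁻¹' {s}) := by
    ext y
    constructor
    · intro hy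
      obtain ⟨x, rfl⟩ := p.left.surjective y
      exact ⟨x, by rw [← Over.w p]; exact hy, rfl⟩
    · rintro ⟨x, hx, rfl⟩
      rw [← Over.w p] at hx
      exact hx
  rw [he]
  exact h.image _ p.left.continuous.continuousOn

theorem isMultTypeFT_of_extension_fibres (hH : SGA3x.IsMultTypeFT H) (hK : SGA3x.IsMultTypeFT K)
    (h : ∀ s : S, _root_.IsConnected (E.hom.base ⁻¹' {s}) ∨ CommOver E s) : SGA3x.IsMultTypeFT E := by
  haveI := mono_ker p i hker
  exact isMultTypeFT_of_comm_extension p i hker
    (fun _ a b => comm_of_central p i hker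
      (fun X e x => central_of_normal i (isNormal_ker p i hker) hH h e x) hH hK
      (fun s => (h s).imp (isConnected_fibre_of_surjective p i hker s) id) a b) hH hK

end Groth.Agent.MTExt29
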