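import Groth.Agent.Lib.MTRigid29.CentralizerNormalizer
import Groth.Agent.Lib.MTRigid29.NormalCentral

/-!
# Pairings with a group of multiplicative type are trivial on connected fibres
-/

set_option autoImplicit false
set_option linter.style.haveILetI false
set_option backward.isDefEq.respectTransparency.types false
set_option maxSynthPendingDepth 3

universe u

open CategoryTheory Limits MonoidalCategory CartesianMonoidalCategory MonObj AlgebraicGeometry Opposite

noncomputable section

namespace Groth.Agent.MTExt29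

open DiagGL MTRigid29

variable {S : Scheme.{u}}

/-- A map `K × M → H`, multiplicative in the second variable and trivial at the unit of `K`, with `M`, `H` of
multiplicative type, is trivial if it is so over the points of the base whose fibre in `K` is not connected. -/
theorem pairing_eq_one {K M H : Over S} [GrpObj K] [GrpObj M] [GrpObj H] (c : K ⊗ M ⟶ H)
    (hM : SGA3x.IsMultTypeFT M) (hH : SGA3x.IsMultTypeFT H)
    (hr : ∀ (X : Over S) (a : X ⟶ K) (m m' : X ⟶ M),
      lift a (m * m') ≫ c = (lift a m ≫ c) * (lift a m' ≫ c))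
    (h1 : ∀ (X : Over S) (m : X ⟶ M), lift (1 : X ⟶ K) m ≫ c = 1)
    (hs : ∀ s : S, _root_.IsConnected (K.hom.base ⁻¹' {s}) ∨
      ∀ (X : Over S) (q : X.left ⟶ Spec (S.residueField s)), q ≫ S.fromSpecResidueField s = X.hom →
        ∀ (a : X ⟶ K) (m : X ⟶ M), lift a m ≫ c = 1)
    {X : Over S} (a : X ⟶ K) (m : X ⟶ M) : lift a m ≫ c = 1 := by
  let f : K.left ⟶ S := K.hom
  let MK := Red.bc f M
  let HK := Red.bc f H
  let kY : ∀ (Y : Over K.left), (Over.map f).obj Y ⟶ K := fun Y => Over.homMk Y.hom rfl
  let v : MK ⟶ HK := (Over.mapPullbackAdj f).homEquiv _ _ (lift (kY MK) (fl f M (𝟙 MK)) ≫ c)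
  have hv : ∀ (Y : Over K.left) (y : Y ⟶ MK), fl f H (y ≫ v) = lift (kY Y) (fl f M y) ≫ c := by
    intro Y y
    have h1 : fl f M y = (Over.map f).map y ≫ fl f M (𝟙 MK) := by rw [← fl_comp, Category.comp_id]
    have h2 : kY Y = (Over.map f).map y ≫ kY MK := Over.OverMorphism.ext (Over.w y).symm
    rw [fl_comp, show fl f H v = _ from Equiv.symm_apply_apply _ _, h1, h2, ← comp_lift_assoc]
  haveI : IsMonHom v := TorsorSch25.isMonHom_of_points v fun Y y y' =>
    fl_injective f H (by rw [fl_mul, hv, hv, hv, fl_mul, hr])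
  have hMK := isMultTypeFT_bc hM f
  have hHK := isMultTypeFT_bc hH f
  haveI := isAffineHom_of_isMultTypeFT hHK
  haveI := locallyOfFiniteType_of_isMultTypeFT hHK
  obtain ⟨U, hUc, hU, hUt⟩ := exists_triv_locus v hMK (.inr inferInstance)
  -- the unit section lies in the locus
  let e : S ⟶ K.left := (1 : 𝟙_ (Over S) ⟶ K).left
  have he : e ≫ f = 𝟙 S := Over.w (1 : 𝟙_ (Over S) ⟶ K)
  have het : Triv v e := by
    intro T y
    have hk : kY ((Over.map e).obj T) = 1 := by
      refine Over.OverMorphism.ext ?_
      rw [← MonObj.comp_one (toUnit ((Over.map f).obj ((Over.map e).obj T)))]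
      show T.hom ≫ e = _ ≫ e
      congr 1
      have := Over.w (toUnit ((Over.map f).obj ((Over.map e).obj T)))
      exact ((Category.comp_id _).symm.trans (congrArg (T.hom ≫ ·) he.symm)).trans
        ((Category.assoc _ _ _).symm.trans (this.symm.trans (Category.comp_id _)))
    exact fl_injective f H (by rw [hv, hk, h1, fl_one])
  have heU : ∀ s, e s ∈ U := by
    intro s
    rw [hU]
    haveI : IsImmersion (e ≫ f) := by rw [he]; infer_instance
    haveI : IsImmersion e := IsImmersion.of_comp e f
    haveI : IsIso (e.residueFieldMap s) := by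
      refine (ConcreteCategory.isIso_iff_bijective (e.residueFieldMap s)).2
        ⟨(e.residueFieldMap s).hom.injective, ?_⟩
      have h1 : Function.Surjective (e.stalkMap s ≫ S.residue s) := by
        simp only [CommRingCat.hom_comp, RingHom.coe_comp]
        exact (Scheme.residue_surjective _ _).comp (e.stalkMap_surjective s)
      rw [← Scheme.residue_residueFieldMap] at h1
      exact Function.Surjective.of_comp (g := ⇑(K.left.residue (e s)).hom) h1
    have h2 := triv_comp v het (S.fromSpecResidueField s)
    rw [← Scheme.Hom.SpecMap_residueFieldMap_fromSpecResidueField] at h2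
    have h3 := triv_comp v h2 (inv (Spec.map (e.residueFieldMap s)))
    rwa [IsIso.inv_hom_id_assoc] at h3
  have huniv : ∀ x : K.left, x ∈ U := by
    intro x
    rcases hs (f x) with hconn | htriv
    · refine hconn.isPreconnected.subset_isClopen ⟨hUc, U.2⟩ ⟨e (f x), ?_, heU (f x)⟩ rfl
      show f (e (f x)) = f x
      rw [← Scheme.Hom.comp_apply, he]
      rfl
    · rw [hU]
      intro T y
      refine fl_injective f H ?_
      rw [hv, fl_one]
      refine htriv _ (T.hom ≫ Spec.map (f.residueFieldMap x)) ?_ _ _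
      show (T.hom ≫ Spec.map (f.residueFieldMap x)) ≫ S.fromSpecResidueField (f x) =
        (T.hom ≫ K.left.fromSpecResidueField x) ≫ f
      rw [Category.assoc, Category.assoc, Scheme.Hom.SpecMap_residueFieldMap_fromSpecResidueField]
  have hall : Triv v (𝟙 K.left) := triv_of_cover v (𝟙 _) fun x =>
    ⟨_, U.ι, inferInstance, ⟨⟨x, huniv x⟩, rfl⟩, hUt⟩
  -- the given point
  let Y : Over K.left := Over.mk a.left
  let j : (Over.map f).obj Y ≅ X := Over.isoMk (Iso.refl _) ((Category.id_comp _).trans (Over.w a).symm)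
  let j' : Y ≅ (Over.map (𝟙 K.left)).obj Y := Over.isoMk (Iso.refl _) (by simp)
  obtain ⟨y, hy⟩ := fl_surjective f M (j.hom ≫ m)
  have h0 : y ≫ v = 1 := by
    have := congrArg (j'.hom ≫ ·) (hall Y (j'.inv ≫ y))
    simpa [MonObj.comp_one] using this
  have h2 := hv Y y
  rw [h0, fl_one, hy, show kY Y = j.hom ≫ a from Over.OverMorphism.ext (Category.id_comp _).symm,
    ← comp_lift_assoc] at h2
  rw [← cancel_epi j.hom, ← h2, MonObj.comp_one]

end Groth.Agent.MTExt29
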